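import Groth.Agent.Lib.PerfCl20.Basic
import Groth.Agent.Lib.FrobUH12.Basic
import Groth.Agent.Lib.FibreLocus.Fibre
import Mathlib.AlgebraicGeometry.Morphisms.Etale

/-!
# The relative Frobenius of an étale morphism, and étale schemes over perfect schemes
-/

universe u

set_option autoImplicit false
set_option linter.style.haveILetI false

open CategoryTheory CategoryTheory.Limits AlgebraicGeometry

namespace Groth.Agent.PerfEt29

variable {p : ℕ} [Fact p.Prime]

/-- The relative Frobenius of an étale morphism is an isomorphism. -/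
theorem isIso_relFrob {X S : Scheme.{u}} [FrobSch.IsCharP S p] (f : X ⟶ S) [Etale f] :
    IsIso (FrobSch.relFrob f p) := by
  have hUH := (Groth.Agent.S0415.result _).1 (FrobUH12.isUnivHomeo_relFrob (p := p) f)
  haveI : Etale (pullback.snd f (FrobSch.frob S p)) :=
    MorphismProperty.pullback_snd _ _ ‹Etale f›
  haveI : Etale (FrobSch.relFrob f p) :=
    MorphismProperty.of_postcomp (W := @Etale) (W' := @Etale) _
      (pullback.snd f (FrobSch.frob S p)) ‹_› (by rw [FrobSch.relFrob_snd]; infer_instance)
  exact (FibreLocus.isIso_iff_isOpenImmersion_and_surjective _).2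
    ⟨(FibreLocus.isOpenImmersion_iff_etale_and_universallyInjective _).2 ⟨‹_›, hUH.2.1⟩,
      hUH.2.2.surj⟩

/-- A scheme étale over a perfect scheme is perfect. -/
theorem isPerfect_of_etale {X S : Scheme.{u}} [FrobSch.IsCharP S p] [FrobSch.IsCharP X p]
    (f : X ⟶ S) [Etale f] (hS : FrobSch.IsPerfect S p) : FrobSch.IsPerfect X p := by
  haveI : IsIso (FrobSch.frob S p) := hS
  haveI := isIso_relFrob (p := p) f
  show IsIso (FrobSch.frob X p)
  rw [← FrobSch.relFrob_fst f p]
  infer_instance

/-- Perfections commute with étale base change. -/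
theorem isPerfection_pullback {X Y YP : Scheme.{u}} [FrobSch.IsCharP YP p] {πY : YP ⟶ Y}
    (hY : FrobSch.IsPerfection πY p) (f : X ⟶ Y) [Etale f]
    [FrobSch.IsCharP (pullback πY f) p] : FrobSch.IsPerfection (pullback.snd πY f) p := by
  haveI : Etale (pullback.fst πY f) := MorphismProperty.pullback_fst _ _ ‹Etale f›
  refine ⟨isPerfect_of_etale (pullback.fst πY f) hY.1, fun Z _ hZ => ⟨fun g g' hg => ?_, fun g => ?_⟩⟩
  · change g ≫ pullback.snd πY f = g' ≫ pullback.snd πY f at hg
    exact pullback.hom_ext (PerfCl20.perfection_ext hY hZ (by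
      rw [Category.assoc, Category.assoc, pullback.condition, reassoc_of% hg])) hg
  · obtain ⟨a, ha⟩ := PerfCl20.perfection_lift hY hZ (g ≫ f)
    exact ⟨pullback.lift a g ha, pullback.lift_snd _ _ _⟩

/-- The square of perfections of an étale morphism is cartesian. -/
theorem isPullback_perfection {X Y XP YP : Scheme.{u}} [FrobSch.IsCharP XP p]
    [FrobSch.IsCharP YP p] {πX : XP ⟶ X} {πY : YP ⟶ Y} (hX : FrobSch.IsPerfection πX p)
    (hY : FrobSch.IsPerfection πY p) (f : X ⟶ Y) (fP : XP ⟶ YP) (w : fP ≫ πY = πX ≫ f)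
    [Etale f] : IsPullback fP πX πY f := by
  letI := FrobSch.IsCharP.of_hom (pullback.fst πY f) p
  obtain ⟨e, he⟩ := PerfCl20.exists_iso hX (isPerfection_pullback hY f)
  refine IsPullback.of_iso_pullback ⟨w⟩ e ?_ he
  refine PerfCl20.perfection_ext hY hX.1 ?_
  rw [Category.assoc, pullback.condition, reassoc_of% he, w]

end Groth.Agent.PerfEt29
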