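import Groth.Agent.Lib.Pic18.Glue
import Groth.Agent.Lib.CubeField.Coc

/-!
# The invertible module of a family of transition functions
-/

universe u

set_option autoImplicit false
set_option linter.style.haveILetI false
set_option backward.isDefEq.respectTransparency false

open CategoryTheory AlgebraicGeometry TopologicalSpace Opposite

namespace Groth.Agent.PerfEt29

open Groth.Agent.M1 CubeField

variable {X : Scheme.{u}} {ι : Type} (c : Coc X ι)

/-- The space of values of sections of the module. -/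
abbrev CT (p : X) : Type u := ι → X.presheaf.stalk p

open scoped Classical in
/-- The value of the `j`-th generator. -/
noncomputable def cE (j : ι) (p : X) : CT (ι := ι) p := fun k =>
  if h : p ∈ c.V k ⊓ c.V j then X.presheaf.germ (c.V k ⊓ c.V j) p h (c.g k j) else 0

theorem cE_self {j : ι} {p : X} (h : p ∈ c.V j) : cE c j p j = 1 := by
  rw [cE, dif_pos ⟨h, h⟩, c.refl, map_one]

theorem germ_rs {U V : X.Opens} (h : V ≤ U) {p : X} (hp : p ∈ V) (a : Γ(X, U)) :
    X.presheaf.germ V p hp (rs h a) = X.presheaf.germ U p (h hp) a :=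
  X.presheaf.germ_res_apply (homOfLE h) p hp a

theorem cE_trans {i j : ι} {p : X} (hi : p ∈ c.V i) (hj : p ∈ c.V j) :
    cE c j p = X.presheaf.germ (c.V i ⊓ c.V j) p ⟨hi, hj⟩ (c.g i j) • cE c i p := by
  funext k
  rw [Pi.smul_apply, smul_eq_mul]
  by_cases hk : p ∈ c.V k
  · rw [cE, cE, dif_pos ⟨hk, hj⟩, dif_pos ⟨hk, hi⟩]
    have h := congrArg (X.presheaf.germ (c.V k ⊓ c.V i ⊓ c.V j) p ⟨⟨hk, hi⟩, hj⟩)
      (c.comp k i j (c.V k ⊓ c.V i ⊓ c.V j) (inf_le_left.trans inf_le_left) (inf_le_left.trans inf_le_right)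
        inf_le_right)
    rw [map_mul, germ_rs, germ_rs, germ_rs] at h
    rw [mul_comm]
    exact h.symm
  · rw [cE, cE, dif_neg fun h => hk h.1, dif_neg fun h => hk h.1, mul_zero]

theorem cE_inj {j : ι} {p : X} (h : p ∈ c.V j) :
    Function.Injective fun a : X.presheaf.stalk p => a • cE c j p := fun a b e => by
  simpa [Pi.smul_apply, cE_self c h] using congrFun e j

/-- Multiples of the `j`-th generator. -/
def IsMult (j : ι) (W : X.Opens) (f : ∀ p : W, CT (ι := ι) p.1) : Prop :=
  ∃ a : Γ(X, W), ∀ p : W, f p = X.presheaf.germ W p.1 p.2 a • cE c j p.1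

/-- Sections of the module, as a predicate. -/
noncomputable def cPre : TopCat.PrelocalPredicate (fun p : X => CT (ι := ι) p) where
  pred {W} f := ∃ j, W ≤ c.V j ∧ IsMult c j W f
  res {W W'} k f := by
    rintro ⟨j, hj, a, ha⟩
    refine ⟨j, k.le.trans hj, ores k.le a, fun p => (ha ⟨p.1, k.le p.2⟩).trans ?_⟩
    exact congrArg (· • cE c j p.1) (X.presheaf.germ_res_apply k p.1 p.2 a).symm

theorem isMult_of_pre {W : X.Opens} {f : ∀ p : W, CT (ι := ι) p.1} (h : (cPre c).pred f) {i : ι}
    (hi : W ≤ c.V i) : IsMult c i W f := by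
  obtain ⟨j, hj, a, ha⟩ := h
  refine ⟨a * rs (le_inf hi hj) (c.g i j), fun p => ?_⟩
  rw [ha p, cE_trans c (hi p.2) (hj p.2), smul_smul, map_mul, germ_rs]

variable (hcov : ⨆ i, c.V i = ⊤)

theorem isModPred_cPre : (⨆ i, c.V i = ⊤) → Mero.IsModPred (cPre c).sheafify := fun hcov =>
  have mem : ∀ p : X, ∃ i, p ∈ c.V i := fun p => Opens.mem_iSup.1 (hcov.ge (Opens.mem_top p))
  { zero := fun W p => by
      obtain ⟨i, hi⟩ := mem p.1
      exact ⟨W ⊓ c.V i, ⟨p.2, hi⟩, homOfLE inf_le_left, i, inf_le_right, 0, fun q => by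
        rw [map_zero, zero_smul]; rfl⟩
    add := fun W f f' hf hf' p => by
      obtain ⟨A, hA, kA, h⟩ := hf p
      obtain ⟨B, hB, kB, h'⟩ := hf' p
      obtain ⟨i, hp⟩ := mem p.1
      let C : X.Opens := A ⊓ B ⊓ c.V i
      have h1 := (cPre c).res (homOfLE (inf_le_left.trans inf_le_left : C ≤ A)) _ h
      have h2 := (cPre c).res (homOfLE (inf_le_left.trans inf_le_right : C ≤ B)) _ h'
      obtain ⟨a, ha⟩ := isMult_of_pre c h1 (i := i) inf_le_right
      obtain ⟨a', ha'⟩ := isMult_of_pre c h2 (i := i) inf_le_right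
      refine ⟨C, ⟨⟨hA, hB⟩, hp⟩, homOfLE ((inf_le_left.trans inf_le_left).trans kA.le), i, inf_le_right,
        a + a', fun q => ?_⟩
      rw [map_add, add_smul]
      exact congrArg₂ (· + ·) (ha q) (ha' q)
    smul := fun W r f hf p => by
      obtain ⟨A, hA, kA, i, hi, a, ha⟩ := hf p
      refine ⟨A, hA, kA, i, hi, ores kA.le r * a, fun q => ?_⟩
      rw [map_mul, mul_smul]
      exact congrArg₂ (· • ·) (X.presheaf.germ_res_apply kA q.1 q.2 r).symm (ha q) }

include hcov in
/-- Every family of transition functions is that of an invertible module. -/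
theorem exists_module_triv : ∃ L : X.Modules, PicF.IsInvertible L ∧ Nonempty (Triv L c) := by
  haveI := isModPred_cPre c hcov
  let M : X.Modules := Mero.modOf (cPre c).sheafify
  let e : ∀ i, Γ(M, c.V i) := fun i =>
    ⟨fun p => cE c i p.1, fun p => ⟨c.V i, p.2, 𝟙 _, i, le_rfl, 1, fun q => by
      rw [map_one, one_smul]; rfl⟩⟩
  have hgen : ∀ i, Twist.IsGen M (c.V i) (e i) := by
    intro i V hV
    constructor
    · intro r r' he
      refine TopCat.Presheaf.section_ext X.sheaf V r r' fun x hx => cE_inj c (hV hx) ?_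
      exact congrArg (fun m : Γ(M, V) => m.1 ⟨x, hx⟩) he
    · intro f
      choose A hA k h using f.2
      choose a ha using fun x : V => isMult_of_pre c (h x) ((k x).le.trans hV)
      obtain ⟨R, hR, -⟩ := X.sheaf.existsUnique_gluing' A V k
        (fun x hx => Opens.mem_iSup.2 ⟨⟨x, hx⟩, hA ⟨x, hx⟩⟩) a fun x y => by
          refine TopCat.Presheaf.section_ext X.sheaf _ _ _ fun q hq => cE_inj c (hV ((k x).le hq.1)) ?_
          change X.presheaf.germ _ q hq (X.presheaf.map _ (a x)) • _ =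
            X.presheaf.germ _ q hq (X.presheaf.map _ (a y)) • _
          erw [X.presheaf.germ_res_apply, X.presheaf.germ_res_apply]
          exact (ha x ⟨q, hq.1⟩).symm.trans (ha y ⟨q, hq.2⟩)
      refine ⟨R, Subtype.ext (funext fun p => ?_)⟩
      show X.presheaf.germ V p.1 p.2 R • cE c i p.1 = f.1 p
      refine Eq.trans ?_ (ha p ⟨p.1, hA p⟩).symm
      refine congrArg (· • cE c i p.1) ?_
      refine (X.presheaf.germ_res_apply (k p) p.1 (hA p) R).symm.trans ?_
      exact congrArg (X.presheaf.germ (A p) p.1 (hA p)) (hR p)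
  refine ⟨M, fun x => ?_, ⟨⟨e, hgen, fun i j => Subtype.ext (funext fun p => cE_trans c p.2.1 p.2.2)⟩⟩⟩
  obtain ⟨i, hi⟩ := Opens.mem_iSup.1 (hcov.ge (Opens.mem_top x))
  exact ⟨c.V i, hi, Twist.nonempty_restrict_iso _ _ _ (hgen i)⟩

end Groth.Agent.PerfEt29
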