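import Groth.Agent.Lib.PerfEt29.Line
import Groth.Agent.Lib.PerfEt29.GlueCoc
import Groth.Agent.Lib.Pic18.GluePull

/-!
# Descent of invertible modules along a perfection up to Frobenius powers
-/

universe u

set_option autoImplicit false
set_option linter.style.haveILetI false
set_option backward.isDefEq.respectTransparency false

open CategoryTheory CategoryTheory.Limits AlgebraicGeometry TopologicalSpace Opposite

namespace Groth.Agent.PerfEt29

open PerfCl20 CubeField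

variable {p : ℕ} [Fact p.Prime] {XP X : Scheme.{u}} [FrobSch.IsCharP XP p] [FrobSch.IsCharP X p]
  {π : XP ⟶ X} {ι : Type}

/-- Transition functions descend after a Frobenius power. -/
theorem exists_coc_lift [QuasiSeparatedSpace X] (hπ : FrobSch.IsPerfection π p) [Finite ι]
    (U : ι → X.Opens) (hU : ∀ i, IsCompact (U i : Set X))
    (g : ∀ i j, Γ(XP, π ⁻¹ᵁ (U i ⊓ U j))) (hrefl : ∀ i, g i i = 1)
    (hcomp : ∀ i j k, rs (π.preimage_mono (inf_le_left : U i ⊓ U j ⊓ U k ≤ U i ⊓ U j)) (g i j) *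
        rs (π.preimage_mono (le_inf (inf_le_left.trans inf_le_right) inf_le_right :
          U i ⊓ U j ⊓ U k ≤ U j ⊓ U k)) (g j k) =
        rs (π.preimage_mono (le_inf (inf_le_left.trans inf_le_left) inf_le_right :
          U i ⊓ U j ⊓ U k ≤ U i ⊓ U k)) (g i k)) :
    ∃ (n : ℕ) (b : ∀ i j, Γ(X, U i ⊓ U j)), (∀ i j, π.app _ (b i j) = g i j ^ p ^ n) ∧
      (∀ i, b i i = 1) ∧ ∀ i j k, rs (inf_le_left : U i ⊓ U j ⊓ U k ≤ U i ⊓ U j) (b i j) *
        rs (le_inf (inf_le_left.trans inf_le_right) inf_le_right : U i ⊓ U j ⊓ U k ≤ U j ⊓ U k) (b j k) =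
        rs (le_inf (inf_le_left.trans inf_le_left) inf_le_right : U i ⊓ U j ⊓ U k ≤ U i ⊓ U k) (b i k) := by
  classical
  haveI := Fintype.ofFinite ι
  have hp : p ≠ 0 := (Fact.out : p.Prime).ne_zero
  have hc2 : ∀ i j, IsCompact ((U i ⊓ U j : X.Opens) : Set X) := fun i j =>
    QuasiSeparatedSpace.inter_isCompact _ _ (U i).2 (hU i) (U j).2 (hU j)
  choose n a ha using fun q : ι × ι => exists_app_eq_pow hπ (hc2 q.1 q.2) (g q.1 q.2)
  let N := Finset.univ.sup n
  have hup : ∀ i j : ι, ∃ c : Γ(X, U i ⊓ U j), π.app _ c = g i j ^ p ^ N := fun i j => by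
    refine ⟨a (i, j) ^ p ^ (N - n (i, j)), ?_⟩
    rw [map_pow, ha (i, j), ← pow_mul, ← pow_add,
      Nat.add_sub_cancel' (Finset.le_sup (f := n) (Finset.mem_univ (i, j)))]
  choose c hc using hup
  have hr : ∀ i, ∃ m, (c i i - 1) ^ p ^ m = 0 := fun i => by
    refine exists_pow_eq_zero hπ (hc2 i i) _ ?_
    rw [map_sub, map_one, hc i i, hrefl, one_pow, sub_self]
  have hco : ∀ q : ι × ι × ι, ∃ m,
      (rs (inf_le_left : U q.1 ⊓ U q.2.1 ⊓ U q.2.2 ≤ U q.1 ⊓ U q.2.1) (c q.1 q.2.1) *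
        rs (le_inf (inf_le_left.trans inf_le_right) inf_le_right :
          U q.1 ⊓ U q.2.1 ⊓ U q.2.2 ≤ U q.2.1 ⊓ U q.2.2) (c q.2.1 q.2.2) -
        rs (le_inf (inf_le_left.trans inf_le_left) inf_le_right :
          U q.1 ⊓ U q.2.1 ⊓ U q.2.2 ≤ U q.1 ⊓ U q.2.2) (c q.1 q.2.2)) ^ p ^ m = 0 := fun q => by
    refine exists_pow_eq_zero hπ (QuasiSeparatedSpace.inter_isCompact _ _ (U q.1 ⊓ U q.2.1).2
      (hc2 _ _) (U q.2.2).2 (hU q.2.2)) _ ?_
    rw [map_sub, map_mul, CubeField.app_rs, CubeField.app_rs, CubeField.app_rs, hc, hc, hc,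
      map_pow, map_pow, map_pow, ← mul_pow, hcomp, sub_self]
  choose m hm using hr
  choose m' hm' using hco
  let M := Finset.univ.sup m + Finset.univ.sup m'
  refine ⟨N + M, fun i j => c i j ^ p ^ M, fun i j => ?_, fun i => ?_, fun i j k => ?_⟩
  · rw [map_pow, hc, ← pow_mul, ← pow_add]
  · have h := pow_eq_mono hp ((Finset.le_sup (f := m) (Finset.mem_univ i)).trans (Nat.le_add_right (Finset.univ.sup m) (Finset.univ.sup m'))) (hm i)
    rw [sub_pow_eq (FrobSch.natCast_eq_zero_app X p _), one_pow, sub_eq_zero] at h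
    exact h
  · have h := pow_eq_mono hp ((Finset.le_sup (f := m') (Finset.mem_univ (i, j, k))).trans
      (Nat.le_add_left (Finset.univ.sup m') (Finset.univ.sup m))) (hm' (i, j, k))
    rw [sub_pow_eq (FrobSch.natCast_eq_zero_app X p _), sub_eq_zero, mul_pow] at h
    rw [map_pow, map_pow, map_pow]
    exact h

theorem exists_descend [CompactSpace X] [QuasiSeparatedSpace X] (hπ : FrobSch.IsPerfection π p)
    (M : XP.Modules) (hM : PicF.IsInvertible M) :
    ∃ (n : ℕ) (L : X.Modules), PicF.IsInvertible L ∧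
      PicF.cl (CohB1.tensorPow M (p ^ n)) = PicF.pullCl π (PicF.cl L) := by
  have hh := UH.isHomeomorph_of_isUnivHomeo (PerfCl20.isUnivHomeo hπ)
  haveI : CompactSpace XP := hh.homeomorph.symm.compactSpace
  obtain ⟨r, c, hV, hcov, ⟨T⟩⟩ := exists_triv M hM
  let U : Fin r → X.Opens := fun i => ⟨π '' (c.V i : Set XP), hh.isOpenMap _ (c.V i).2⟩
  have hpre : ∀ i, π ⁻¹ᵁ U i = c.V i := fun i =>
    Opens.ext (Set.preimage_image_eq _ hh.injective)
  have hle : ∀ i j, π ⁻¹ᵁ (U i ⊓ U j) ≤ c.V i ⊓ c.V j := fun i j =>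
    le_inf ((π.preimage_mono inf_le_left).trans (hpre i).le) ((π.preimage_mono inf_le_right).trans (hpre j).le)
  have hUcov : ⨆ i, U i = ⊤ := eq_top_iff.2 fun x _ => by
    obtain ⟨z, rfl⟩ := hh.surjective x
    obtain ⟨i, hi⟩ := Opens.mem_iSup.1 (hcov.ge (Opens.mem_top z))
    exact Opens.mem_iSup.2 ⟨i, z, hi, rfl⟩
  obtain ⟨n, b, hb, hb1, hbc⟩ := exists_coc_lift hπ U
    (fun i => (hV i).isCompact.image π.continuous) (fun i j => rs (hle i j) (c.g i j))
    (fun i => by rw [c.refl, map_one]) (fun i j k => by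
      simp only [CubeField.rs_rs]
      exact c.comp i j k (π ⁻¹ᵁ (U i ⊓ U j ⊓ U k))
        ((π.preimage_mono (inf_le_left.trans inf_le_left)).trans (hpre i).le)
        ((π.preimage_mono (inf_le_left.trans inf_le_right)).trans (hpre j).le)
        ((π.preimage_mono inf_le_right).trans (hpre k).le))
  let d : Coc X (Fin r) := ⟨U, b, hb1, fun i j k W hi hj hk => by
    have h := congrArg (rs (le_inf (le_inf hi hj) hk : W ≤ U i ⊓ U j ⊓ U k)) (hbc i j k)
    rwa [map_mul, CubeField.rs_rs, CubeField.rs_rs, CubeField.rs_rs] at h⟩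
  obtain ⟨L, hL, ⟨TL⟩⟩ := exists_module_triv d hUcov
  refine ⟨n, L, hL, ?_⟩
  let TM := T.pow hM (p ^ n)
  obtain ⟨e⟩ := Pic18.pullback_iso_of_gens π (M := L) (L := CohB1.tensorPow M (p ^ n))
    (fun i : ULift.{u} (Fin r) => U i.down)
    (eq_top_iff.2 fun x _ => by
      obtain ⟨i, hi⟩ := Opens.mem_iSup.1 (hUcov.ge (Opens.mem_top x))
      exact Opens.mem_iSup.2 ⟨⟨i⟩, hi⟩)
    (fun i => TL.e i.down) (fun i => TL.gen i.down)
    (fun i => M1.mres _ (hpre i.down).le (TM.e i.down))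
    (fun i => (TM.gen i.down).mres _) fun ⟨i⟩ ⟨j⟩ t ht => by
      obtain rfl : t = b i j := (TL.gen i _ inf_le_left).1 (ht.symm.trans (TL.trans i j))
      show _ = π.app (U i ⊓ U j) (b i j) • _
      rw [hb]
      have h := congrArg (M1.mres (CohB1.tensorPow M (p ^ n)) (hle i j)) (TM.trans i j)
      refine (M1.mres_mres _ _ _ (TM.e j)).trans ((M1.mres_mres _ _ _ (TM.e j)).symm.trans
        (h.trans ((M1.mres_smul _ _ _ _).trans ?_)))
      exact congrArg₂ (· • ·) (map_pow (rs (hle i j)) (c.g i j) _)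
        ((M1.mres_mres _ _ _ (TM.e i)).trans (M1.mres_mres _ _ _ (TM.e i)).symm)
  exact (((PicGrp.cl_eq_cl_iff _ _).2 ⟨e⟩ : PicF.pullCl π (PicF.cl L) = _)).symm

end Groth.Agent.PerfEt29
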