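import Groth.Agent.Lib.PerfEt29.Sections
import Groth.Agent.Lib.CubeField.AmpleSec
import Groth.Agent.Lib.TensorMod.PullTensor
import Groth.Prelude.Def_PicGrp

/-!
# Invertible modules and perfection
-/

universe u

set_option autoImplicit false
set_option linter.style.haveILetI false
set_option backward.isDefEq.respectTransparency false

open CategoryTheory CategoryTheory.Limits AlgebraicGeometry TopologicalSpace Opposite

namespace Groth.Agent.PerfEt29

open PerfCl20 CubeField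

variable {p : ℕ} [Fact p.Prime] {XP X : Scheme.{u}} [FrobSch.IsCharP XP p] [FrobSch.IsCharP X p]
  {π : XP ⟶ X} {ι : Type}

theorem exists_app_eq_pow_unit [QuasiSeparatedSpace X] (hπ : FrobSch.IsPerfection π p)
    {U : X.Opens} (hc : IsCompact (U : Set X)) (v : Γ(XP, π ⁻¹ᵁ U)) :
    ∃ (n : ℕ) (a : Γ(X, U)), π.app U a = v ^ p ^ n ∧ (IsUnit v → IsUnit a) := by
  by_cases hv : IsUnit v
  · obtain ⟨n, a, ha⟩ := exists_app_eq_pow hπ hc v
    obtain ⟨m, b, hb⟩ := exists_app_eq_pow hπ hc ((hv.unit⁻¹ : (Γ(XP, π ⁻¹ᵁ U))ˣ) : Γ(XP, π ⁻¹ᵁ U))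
    obtain ⟨k, hk⟩ := exists_pow_eq_zero hπ hc (a ^ p ^ m * b ^ p ^ n - 1) (by
      rw [map_sub, map_one, map_mul, map_pow, map_pow, ha, hb, ← pow_mul, ← pow_mul,
        mul_comm (p ^ m) (p ^ n), ← mul_pow, hv.mul_val_inv, one_pow, sub_self])
    rw [sub_pow_eq (FrobSch.natCast_eq_zero_app X p U), one_pow, sub_eq_zero, mul_pow,
      ← pow_mul, ← pow_add] at hk
    exact ⟨n + (m + k), a ^ p ^ (m + k), by rw [map_pow, ha, ← pow_mul, ← pow_add],
      fun _ => IsUnit.of_mul_eq_one _ hk⟩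
  · obtain ⟨n, a, ha⟩ := exists_app_eq_pow hπ hc v
    exact ⟨n, a, ha, fun h => absurd h hv⟩

/-- Compatible families descend after a Frobenius power. -/
theorem exists_compat_lift [QuasiSeparatedSpace X] (hπ : FrobSch.IsPerfection π p) [Finite ι]
    (c : Coc X ι) (hc : ∀ i, IsCompact (c.V i : Set X)) (v : ∀ i, Γ(XP, π ⁻¹ᵁ c.V i))
    (hv : (c.pull π).Compat v) :
    ∃ (k : ℕ) (a : ∀ i, Γ(X, c.V i)), (c.pow (p ^ k)).Compat a ∧
      (∀ i, π.app (c.V i) (a i) = v i ^ p ^ k) ∧ ∀ i, IsUnit (v i) → IsUnit (a i) := by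
  classical
  haveI := Fintype.ofFinite ι
  have hp : p ≠ 0 := (Fact.out : p.Prime).ne_zero
  choose n a ha hua using fun i => exists_app_eq_pow_unit hπ (hc i) (v i)
  let N := Finset.univ.sup n
  have hb : ∀ i, π.app (c.V i) (a i ^ p ^ (N - n i)) = v i ^ p ^ N := fun i => by
    rw [map_pow, ha, ← pow_mul, ← pow_add,
      Nat.add_sub_cancel' (Finset.le_sup (f := n) (Finset.mem_univ i))]
  have hov : ∀ q : ι × ι, ∃ m,
      (rs (inf_le_left : c.V q.1 ⊓ c.V q.2 ≤ c.V q.1) (a q.1 ^ p ^ (N - n q.1)) -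
        c.g q.1 q.2 ^ p ^ N * rs inf_le_right (a q.2 ^ p ^ (N - n q.2))) ^ p ^ m = 0 := by
    intro q
    refine exists_pow_eq_zero hπ (QuasiSeparatedSpace.inter_isCompact _ _ (c.V q.1).2 (hc q.1)
      (c.V q.2).2 (hc q.2)) _ ?_
    rw [map_sub, map_mul, CubeField.app_rs, CubeField.app_rs, hb, hb, map_pow, map_pow, map_pow, sub_eq_zero, ← mul_pow]
    exact congrArg (· ^ p ^ N) (hv q.1 q.2)
  choose m hm using hov
  let M := Finset.univ.sup m
  refine ⟨N + M, fun i => (a i ^ p ^ (N - n i)) ^ p ^ M, fun i j => ?_, fun i => ?_, fun i h => ?_⟩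
  · show rs (inf_le_left : c.V i ⊓ c.V j ≤ c.V i) ((a i ^ p ^ (N - n i)) ^ p ^ M) =
      c.g i j ^ p ^ (N + M) * rs (inf_le_right : c.V i ⊓ c.V j ≤ c.V j) ((a j ^ p ^ (N - n j)) ^ p ^ M)
    rw [map_pow, map_pow (rs (inf_le_right : c.V i ⊓ c.V j ≤ c.V j)), pow_add p N M, pow_mul (c.g i j),
      ← mul_pow, ← sub_eq_zero,
      ← sub_pow_eq (FrobSch.natCast_eq_zero_app X p _)]
    exact pow_eq_mono hp (Finset.le_sup (f := m) (Finset.mem_univ (i, j))) (hm (i, j))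
  · rw [map_pow, hb, ← pow_mul, ← pow_add]
  · exact ((hua i h).pow _).pow _

theorem cov_pull {c : Coc X ι} (π : XP ⟶ X) (hcov : ⨆ i, c.V i = ⊤) : ⨆ i, (c.pull π).V i = ⊤ := by
  show ⨆ i, π ⁻¹ᵁ c.V i = ⊤
  rw [← Scheme.Hom.preimage_iSup, hcov, Scheme.Hom.preimage_top]

theorem isTrivialCl_pullCl_iff [CompactSpace X] [QuasiSeparatedSpace X]
    (hπ : FrobSch.IsPerfection π p) (L : X.Modules) (hL : PicF.IsInvertible L) :
    PicF.IsTrivialCl (PicF.pullCl π (PicF.cl L)) ↔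
      ∃ n : ℕ, PicF.IsTrivialCl (PicF.cl (CohB1.tensorPow L (p ^ n))) := by
  obtain ⟨r, c, hV, hcov, ⟨T⟩⟩ := exists_triv L hL
  have h1 : PicF.IsTrivialCl (PicF.pullCl π (PicF.cl L)) ↔ (c.pull π).Trivial := by
    rw [← T.pull_iso_iff hcov π, ← PicGrp.cl_eq_cl_iff]
    rfl
  have h2 : ∀ n, PicF.IsTrivialCl (PicF.cl (CohB1.tensorPow L (p ^ n))) ↔ (c.pow (p ^ n)).Trivial := fun n => by
    rw [← (T.pow hL (p ^ n)).iso_iff hcov, ← PicGrp.cl_eq_cl_iff]
    rfl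
  simp only [h1, h2]
  constructor
  · rintro ⟨v, hv, hu⟩
    obtain ⟨k, a, ha, -, hua⟩ := exists_compat_lift hπ c (fun i => (hV i).isCompact) v hv
    exact ⟨k, a, ha, fun i => hua i (hu i)⟩
  · rintro ⟨n, a, ha, hu⟩
    have hroot : ∀ i, ∃ v : Γ(XP, π ⁻¹ᵁ c.V i), v ^ p ^ n = π.app (c.V i) (a i) := fun i =>
      (bijective_pow_iterate (bijective_sections hπ.1 _) n).surjective _
    choose v hv using hroot
    refine ⟨v, fun i j => ?_, fun i => ?_⟩
    · refine (bijective_pow_iterate (bijective_sections hπ.1 _) n).injective ?_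
      show rs (π.preimage_mono (inf_le_left : c.V i ⊓ c.V j ≤ c.V i)) (v i) ^ p ^ n =
        (π.app (c.V i ⊓ c.V j) (c.g i j) * rs (π.preimage_mono (inf_le_right : c.V i ⊓ c.V j ≤ c.V j)) (v j)) ^ p ^ n
      refine ((map_pow (rs (π.preimage_mono (inf_le_left : c.V i ⊓ c.V j ≤ c.V i))) (v i) _).symm.trans ?_).trans (mul_pow _ _ _).symm
      refine Eq.trans ?_ (congrArg₂ (· * ·) (map_pow (π.app (c.V i ⊓ c.V j)).hom (c.g i j) _)
        (map_pow (rs (π.preimage_mono (inf_le_right : c.V i ⊓ c.V j ≤ c.V j))) (v j) _))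
      rw [hv, hv, ← CubeField.app_rs π (inf_le_left : c.V i ⊓ c.V j ≤ c.V i),
        ← CubeField.app_rs π (inf_le_right : c.V i ⊓ c.V j ≤ c.V j)]
      exact (congrArg (π.app (c.V i ⊓ c.V j)) (ha i j)).trans (map_mul _ _ _)
    · have h := (hu i).map (π.app (c.V i)).hom
      have this : IsUnit (v i ^ p ^ n) := (hv i).symm ▸ h
      exact (isUnit_pow_iff (pow_ne_zero _ (Fact.out : p.Prime).ne_zero)).1 this

theorem isAmple_of_pullback [CompactSpace X] [QuasiSeparatedSpace X] (hπ : FrobSch.IsPerfection π p)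
    (L : X.Modules) (hL : PicF.IsInvertible L)
    (h : CohB1.IsAmple ((Scheme.Modules.pullback π).obj L)) : CohB1.IsAmple L := by
  obtain ⟨r, c, hV, hcov, ⟨T⟩⟩ := exists_triv L hL
  haveI := PerfCl20.surjective hπ
  refine ⟨hL, inferInstance, fun x => ?_⟩
  obtain ⟨z, rfl⟩ := π.surjective x
  obtain ⟨n, s, hzs, hs⟩ := h.2.2 z
  have hLP := h.1
  obtain ⟨v, hv, hvg⟩ := ((T.pull π).pow hLP (n + 1)).exists_coords (M2.isInvertible_tensorPow hLP _) s
  change ∀ i, Γ(XP, π ⁻¹ᵁ c.V i) at v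
  obtain ⟨k, a, ha, hπa, -⟩ := exists_compat_lift hπ (c.pow (n + 1)) (fun i => (hV i).isCompact) v
    (fun i j => by
      show rs (π.preimage_mono (inf_le_left : c.V i ⊓ c.V j ≤ c.V i)) (v i) =
        π.app (c.V i ⊓ c.V j) (c.g i j ^ (n + 1)) *
          rs (π.preimage_mono (inf_le_right : c.V i ⊓ c.V j ≤ c.V j)) (v j)
      rw [map_pow]
      exact hv i j)
  have hN : (n + 1) * p ^ k = ((n + 1) * p ^ k - 1) + 1 :=
    (Nat.sub_add_cancel (Nat.one_le_iff_ne_zero.2 (Nat.mul_ne_zero n.succ_ne_zero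
      (pow_ne_zero _ (Fact.out : p.Prime).ne_zero)))).symm
  generalize hm : (n + 1) * p ^ k - 1 = m at hN
  have ha' : (c.pow (m + 1)).Compat a := fun i j => by
    show rs (inf_le_left : c.V i ⊓ c.V j ≤ c.V i) (a i) =
      c.g i j ^ (m + 1) * rs (inf_le_right : c.V i ⊓ c.V j ≤ c.V j) (a j)
    rw [← hN, pow_mul]
    exact ha i j
  obtain ⟨s', hs'⟩ := (T.pow hL (m + 1)).exists_hom (M2.isInvertible_tensorPow hL _) hcov ha'
  have hpre : π ⁻¹ᵁ CohB1.genLocus _ s' = CohB1.genLocus _ s := by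
    have key : ∀ (i : Fin r) (y : XP), π y ∈ c.V i →
        (π y ∈ CohB1.genLocus _ s' ↔ y ∈ CohB1.genLocus _ s) := fun i y hy => by
      have e1 : π y ∈ CohB1.genLocus _ s' ↔ y ∈ π ⁻¹ᵁ X.basicOpen (a i) := by
        show _ ↔ π y ∈ X.basicOpen (a i)
        rw [← hs' i]
        exact ⟨fun h => ⟨h, hy⟩, fun h => h.1⟩
      have e2 : y ∈ CohB1.genLocus _ s ↔ y ∈ XP.basicOpen (v i) := by
        rw [← hvg i]
        exact ⟨fun h => ⟨h, hy⟩, fun h => h.1⟩
      rw [e1, e2, Scheme.preimage_basicOpen, hπa i,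
        XP.basicOpen_pow (v i) (Nat.pos_of_ne_zero (pow_ne_zero _ (Fact.out : p.Prime).ne_zero))]
    refine Opens.ext (Set.ext fun y => ?_)
    obtain ⟨i, hi⟩ := Opens.mem_iSup.1 (hcov.ge (Opens.mem_top (π y)))
    exact key i y hi
  refine ⟨m, s', ?_, ?_⟩
  · show z ∈ π ⁻¹ᵁ CohB1.genLocus _ s'
    rw [hpre]; exact hzs
  · letI := FrobSch.IsCharP.of_hom (CohB1.genLocus _ s').ι p
    letI := FrobSch.IsCharP.of_hom (π ⁻¹ᵁ CohB1.genLocus _ s').ι p
    haveI : IsAffine (π ⁻¹ᵁ CohB1.genLocus _ s').toScheme := by rw [hpre]; exact hs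
    exact isAffine_of_perfection (isPerfection_restrict hπ (CohB1.genLocus _ s'))

theorem isAmple_iff [CompactSpace X] [QuasiSeparatedSpace X] (hπ : FrobSch.IsPerfection π p)
    (L : X.Modules) (hL : PicF.IsInvertible L) :
    CohB1.IsAmple L ↔ CohB1.IsAmple ((Scheme.Modules.pullback π).obj L) := by
  haveI := PerfCl20.isIntegralHom hπ
  exact ⟨fun h => Amp.isAmple_pullback_of_isAffineHom π h, isAmple_of_pullback hπ L hL⟩

end Groth.Agent.PerfEt29
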