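import Groth.Agent.Lib.PerfCl20.Props
import Mathlib.AlgebraicGeometry.Morphisms.Affine
import Mathlib.AlgebraicGeometry.Morphisms.QuasiSeparated

/-!
# Sections of a perfection over quasi-compact quasi-separated opens, and descent of affineness
-/

universe u

set_option autoImplicit false
set_option linter.style.haveILetI false

open CategoryTheory CategoryTheory.Limits AlgebraicGeometry TopologicalSpace Opposite

namespace Groth.Agent.PerfEt29

open PerfCl20

variable {p : ℕ} [Fact p.Prime] {XP X : Scheme.{u}} [FrobSch.IsCharP XP p] [FrobSch.IsCharP X p]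
  {π : XP ⟶ X}

theorem app_res (π : XP ⟶ X) {U V : X.Opens} (h : V ≤ U) (a : Γ(X, U)) :
    π.app V (X.presheaf.map (homOfLE h).op a) =
      XP.presheaf.map (homOfLE (π.preimage_mono h)).op (π.app U a) := by
  rw [← ConcreteCategory.comp_apply, ← ConcreteCategory.comp_apply, π.naturality (homOfLE h).op]
  rfl

theorem exists_finite_cover {U : X.Opens} (hc : IsCompact (U : Set X)) :
    ∃ s : Finset X.affineOpens, (U ≤ ⨆ V : s, (V.1 : X.Opens)) ∧ ∀ V : s, (V.1 : X.Opens) ≤ U := by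
  obtain ⟨s, hs, e⟩ := isCompact_iff_finite_and_eq_biUnion_affineOpens.mp hc
  refine ⟨hs.toFinset, ?_, fun V => ?_⟩
  · intro x hx
    rw [e, Opens.mem_iSup] at hx
    obtain ⟨V, hV⟩ := hx
    rw [Opens.mem_iSup] at hV
    obtain ⟨hVs, hxV⟩ := hV
    exact Opens.mem_iSup.mpr ⟨⟨V, hs.mem_toFinset.mpr hVs⟩, hxV⟩
  · rw [e]
    exact le_biSup (fun W : X.affineOpens => (W : X.Opens)) (hs.mem_toFinset.mp V.2)

/-- Over a quasi-compact open, a section killed by a perfection is killed by a power of Frobenius. -/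
theorem exists_pow_eq_zero (hπ : FrobSch.IsPerfection π p) {U : X.Opens}
    (hc : IsCompact (U : Set X)) (a : Γ(X, U)) (ha : π.app U a = 0) : ∃ n, a ^ p ^ n = 0 := by
  classical
  obtain ⟨s, hcov, hle⟩ := exists_finite_cover hc
  have hloc : ∀ V : s, ∃ n, X.presheaf.map (homOfLE (hle V)).op a ^ p ^ n = 0 := fun V =>
    (affine_isPerfMap hπ V.1.2).2.ker _ (by rw [app_res, ha, map_zero])
  choose n hn using hloc
  let N := Finset.univ.sup n
  refine ⟨N, TopCat.Sheaf.eq_of_locally_eq' X.sheaf (fun V : s => (V.1 : X.Opens)) U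
    (fun V => homOfLE (hle V)) hcov _ _ fun V => ?_⟩
  change X.presheaf.map (homOfLE (hle V)).op (a ^ p ^ N) = X.presheaf.map (homOfLE (hle V)).op 0
  rw [map_pow, map_zero]
  exact pow_eq_mono (Fact.out : p.Prime).ne_zero (Finset.le_sup (Finset.mem_univ V)) (hn V)

/-- Over a quasi-compact open of a quasi-separated scheme, every section of a perfection has a
power of Frobenius coming from below. -/
theorem exists_app_eq_pow [QuasiSeparatedSpace X] (hπ : FrobSch.IsPerfection π p) {U : X.Opens}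
    (hc : IsCompact (U : Set X)) (b : Γ(XP, π ⁻¹ᵁ U)) :
    ∃ (n : ℕ) (a : Γ(X, U)), π.app U a = b ^ p ^ n := by
  classical
  have hp : p ≠ 0 := (Fact.out : p.Prime).ne_zero
  obtain ⟨s, hcov, hle⟩ := exists_finite_cover hc
  have hloc : ∀ V : s, ∃ (n : ℕ) (a : Γ(X, (V.1 : X.Opens))),
      π.app _ a = (XP.presheaf.map (homOfLE (π.preimage_mono (hle V))).op b) ^ p ^ n := fun V =>
    (affine_isPerfMap hπ V.1.2).2.range _
  choose n a ha using hloc
  let N := Finset.univ.sup n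
  have hup : ∀ V : s, ∃ c : Γ(X, (V.1 : X.Opens)), π.app _ c =
      (XP.presheaf.map (homOfLE (π.preimage_mono (hle V))).op b) ^ p ^ N := fun V => by
    refine ⟨a V ^ p ^ (N - n V), ?_⟩
    rw [map_pow, ha, ← pow_mul, ← pow_add,
      Nat.add_sub_cancel' (Finset.le_sup (f := n) (Finset.mem_univ V))]
  choose c hc' using hup
  have hov : ∀ q : s × s, ∃ m,
      (X.presheaf.map (Opens.infLELeft (q.1.1 : X.Opens) q.2.1).op (c q.1) -
        X.presheaf.map (Opens.infLERight (q.1.1 : X.Opens) q.2.1).op (c q.2)) ^ p ^ m = 0 := by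
    intro q
    refine exists_pow_eq_zero hπ ?_ _ ?_
    · exact QuasiSeparatedSpace.inter_isCompact _ _ q.1.1.1.2 q.1.1.2.isCompact q.2.1.1.2
        q.2.1.2.isCompact
    · rw [map_sub, sub_eq_zero]
      rw [show Opens.infLELeft (q.1.1 : X.Opens) q.2.1 = homOfLE inf_le_left from rfl,
        show Opens.infLERight (q.1.1 : X.Opens) q.2.1 = homOfLE inf_le_right from rfl,
        app_res, app_res, hc', hc', map_pow, map_pow,
        ← ConcreteCategory.comp_apply, ← ConcreteCategory.comp_apply, ← Functor.map_comp,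
        ← Functor.map_comp]
      rfl
  choose m hm using hov
  let M := Finset.univ.sup m
  obtain ⟨g, hg, -⟩ := TopCat.Sheaf.existsUnique_gluing' X.sheaf (fun V : s => (V.1 : X.Opens)) U
    (fun V => homOfLE (hle V)) hcov (fun V => c V ^ p ^ M) (fun V W => by
      change X.presheaf.map _ (c V ^ p ^ M) = X.presheaf.map _ (c W ^ p ^ M)
      rw [map_pow, map_pow, ← sub_eq_zero, ← sub_pow_eq (FrobSch.natCast_eq_zero_app X p _)]
      exact pow_eq_mono hp (Finset.le_sup (f := m) (Finset.mem_univ (V, W))) (hm (V, W)))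
  refine ⟨N + M, g, TopCat.Sheaf.eq_of_locally_eq' XP.sheaf
    (fun V : s => π ⁻¹ᵁ (V.1 : X.Opens)) (π ⁻¹ᵁ U)
    (fun V => homOfLE (π.preimage_mono (hle V))) ?_ _ _ fun V => ?_⟩
  · refine le_trans (π.preimage_mono hcov) (le_of_eq ?_)
    rw [Scheme.Hom.preimage_iSup]
  · change XP.presheaf.map _ (π.app U g) = XP.presheaf.map _ (b ^ p ^ (N + M))
    have hgV : X.presheaf.map (homOfLE (hle V)).op g = c V ^ p ^ M := hg V
    rw [← app_res π (hle V) g, hgV, map_pow, map_pow, hc', ← pow_mul, ← pow_add]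

/-- A scheme with affine perfection is affine. -/
theorem isAffine_of_perfection (hπ : FrobSch.IsPerfection π p) [IsAffine XP] : IsAffine X := by
  classical
  haveI := surjective hπ
  have hhom := (UH.isHomeomorph_of_isUnivHomeo (isUnivHomeo hπ)).homeomorph
  haveI : CompactSpace X := hhom.compactSpace
  haveI : QuasiSeparatedSpace X := (quasiSeparatedSpace_congr hhom).1 inferInstance
  let S : Set Γ(X, ⊤) := {a | IsAffineOpen (X.basicOpen a)}
  refine isAffine_of_isAffineOpen_basicOpen S ?_ fun a ha => ha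
  let φ := (π.app ⊤).hom
  have hperf : Function.Bijective fun x : Γ(XP, π ⁻¹ᵁ ⊤) => x ^ p := bijective_sections hπ.1 _
  have hcov : (π ⁻¹ᵁ ⊤ : XP.Opens) ≤ ⨆ f : (φ '' S : Set _), XP.basicOpen f.1 := by
    intro z _
    obtain ⟨_, ⟨W, hW, rfl⟩, hxW, -⟩ := X.isBasis_affineOpens.exists_subset_of_mem_open
      (Set.mem_univ (π z)) isOpen_univ
    have hT : IsAffineOpen (π ⁻¹ᵁ ⊤ : XP.Opens) := isAffineOpen_top XP
    obtain ⟨g, hgW, hzg⟩ := hT.exists_basicOpen_le (V := π ⁻¹ᵁ W) ⟨z, hxW⟩ trivial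
    obtain ⟨n, a, ha⟩ := exists_app_eq_pow hπ (U := ⊤) isCompact_univ g
    have hpre : π ⁻¹ᵁ X.basicOpen a = XP.basicOpen g := by
      rw [Scheme.preimage_basicOpen, ha]
      exact XP.basicOpen_pow g (Nat.pos_of_ne_zero (pow_ne_zero _ (Fact.out : p.Prime).ne_zero))
    have hle : X.basicOpen a ≤ W := by
      intro x hx
      obtain ⟨y, rfl⟩ := π.surjective x
      have hy : y ∈ π ⁻¹ᵁ X.basicOpen a := hx
      rw [hpre] at hy
      exact hgW hy
    have haS : a ∈ S := by
      show IsAffineOpen (X.basicOpen a)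
      have := hW.basicOpen (X.presheaf.map (homOfLE (le_top : W ≤ ⊤)).op a)
      rwa [Scheme.basicOpen_res, inf_eq_right.mpr hle] at this
    refine Opens.mem_iSup.mpr ⟨⟨φ a, a, haS, rfl⟩, ?_⟩
    show z ∈ XP.basicOpen (π.app ⊤ a)
    rw [← Scheme.preimage_basicOpen, hpre]
    exact hzg
  have hspan : Ideal.span (φ '' S) = ⊤ := (isAffineOpen_top XP).self_le_iSup_basicOpen_iff.mp hcov
  have key : ∀ y ∈ Ideal.span (φ '' S), ∃ n, ∃ e ∈ Ideal.span S, φ e = y ^ p ^ n := by
    intro y hy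
    induction hy using Submodule.span_induction with
    | mem y hy =>
      obtain ⟨a, haS, rfl⟩ := hy
      exact ⟨0, a, Ideal.subset_span haS, by rw [pow_zero, pow_one]⟩
    | zero => exact ⟨0, 0, Submodule.zero_mem _, by rw [map_zero, pow_zero, pow_one]⟩
    | add y z _ _ hy hz =>
      obtain ⟨n, e, he, hey⟩ := hy
      obtain ⟨m, d, hd, hdz⟩ := hz
      refine ⟨n + m, e ^ p ^ m + d ^ p ^ n,
        Submodule.add_mem _ (Ideal.pow_mem_of_mem _ he _ (pow_pos (Nat.pos_of_ne_zero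
          (Fact.out : p.Prime).ne_zero) _)) (Ideal.pow_mem_of_mem _ hd _ (pow_pos
          (Nat.pos_of_ne_zero (Fact.out : p.Prime).ne_zero) _)), ?_⟩
      rw [map_add, map_pow, map_pow, hey, hdz, ← pow_mul, ← pow_mul, ← pow_add, ← pow_add,
        add_pow_eq (FrobSch.natCast_eq_zero_app XP p _), Nat.add_comm m n]
    | smul r y _ hy =>
      obtain ⟨n, e, he, hey⟩ := hy
      obtain ⟨k, c, hc⟩ := exists_app_eq_pow hπ (U := ⊤) isCompact_univ r
      refine ⟨k + n, c ^ p ^ n * e ^ p ^ k, Ideal.mul_mem_left _ _ (Ideal.pow_mem_of_mem _ he _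
        (pow_pos (Nat.pos_of_ne_zero (Fact.out : p.Prime).ne_zero) _)), ?_⟩
      rw [map_mul, map_pow, map_pow, show φ c = r ^ p ^ k from hc, hey, ← pow_mul, ← pow_mul,
        ← pow_add, ← pow_add, Nat.add_comm n k, ← mul_pow, smul_eq_mul]
  obtain ⟨n, e, he, hee⟩ := key 1 (by rw [hspan]; trivial)
  obtain ⟨m, hm⟩ := exists_pow_eq_zero hπ (U := ⊤) isCompact_univ (1 - e) (by
    rw [map_sub, map_one]
    show 1 - φ e = 0
    rw [hee, one_pow, sub_self])
  rw [sub_pow_eq (FrobSch.natCast_eq_zero_app X p ⊤), one_pow, sub_eq_zero] at hm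
  rw [Ideal.eq_top_iff_one, hm]
  exact Ideal.pow_mem_of_mem _ he _ (pow_pos (Nat.pos_of_ne_zero (Fact.out : p.Prime).ne_zero) _)

/-- A morphism whose perfection is affine is affine. -/
theorem isAffineHom_of_perfection {Y YP : Scheme.{u}} [FrobSch.IsCharP Y p] [FrobSch.IsCharP YP p]
    {πY : YP ⟶ Y} (hX : FrobSch.IsPerfection π p) (hY : FrobSch.IsPerfection πY p)
    {f : X ⟶ Y} {fP : XP ⟶ YP} (w : fP ≫ πY = π ≫ f) [IsAffineHom fP] : IsAffineHom f := by
  refine ⟨fun U hU => ?_⟩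
  letI := FrobSch.IsCharP.of_hom (π ⁻¹ᵁ (f ⁻¹ᵁ U)).ι p
  letI := FrobSch.IsCharP.of_hom (f ⁻¹ᵁ U).ι p
  haveI : IsAffine (π ⁻¹ᵁ (f ⁻¹ᵁ U)).toScheme := by
    have h := (affine_isPerfMap hY hU).1.preimage fP
    rwa [← Scheme.Hom.comp_preimage, w, Scheme.Hom.comp_preimage] at h
  exact isAffine_of_perfection (isPerfection_restrict hX (f ⁻¹ᵁ U))

end Groth.Agent.PerfEt29
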